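import Mathlib
import Cfsg.Agent.Zsigmondy.SylowLinear

/-!
# A Sylow subgroup of the general linear group of prime degree

For an odd prime `p` dividing `q - 1` exactly once, the monomial matrices with entries among the
`p`-th roots of unity and cyclic permutation parts form a Sylow subgroup of `GL p q`, and each of
its elements lies in a second Sylow subgroup.
-/

set_option autoImplicit false
set_option linter.unusedSectionVars false

namespace CfsgLib.GLPrimeSylow

open Matrix

variable {F : Type*} [Field F] [Fintype F] {p : ℕ} [Fact p.Prime]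

variable (F p) in
/-- The abstract group. -/
abbrev Mon := rootsOfUnity p F ≀ᵣ Multiplicative (ZMod p)

variable (p) in
/-- Indices as elements of the cyclic group. -/
noncomputable def idx : Fin p ≃ Multiplicative (ZMod p) :=
  ((ZMod.finEquiv p).toEquiv).trans Multiplicative.ofAdd

theorem idx_apply (l : Fin p) : idx p l = Multiplicative.ofAdd ((l : ℕ) : ZMod p) := by
  show Multiplicative.ofAdd (ZMod.finEquiv p l) = _
  congr 1
  obtain ⟨n, rfl⟩ : ∃ n, p = n + 1 :=
    ⟨p - 1, by have := (Fact.out : p.Prime).pos; omega⟩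
  exact (ZMod.natCast_zmod_val (n := n + 1) l).symm

/-- The value of a root of unity in the field. -/
def val (z : rootsOfUnity p F) : F := ((z : Fˣ) : F)

theorem val_ne_zero (z : rootsOfUnity p F) : val z ≠ 0 := (z : Fˣ).ne_zero

theorem val_mul (a b : rootsOfUnity p F) : val (a * b) = val a * val b := rfl

theorem val_one : val (1 : rootsOfUnity p F) = 1 := rfl

theorem val_pow (z : rootsOfUnity p F) : val z ^ p = 1 := by
  have := (mem_rootsOfUnity _ _).1 z.2
  simpa [val] using congrArg Units.val this

theorem val_injective : Function.Injective (val (F := F) (p := p)) := fun a b h =>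
  Subtype.ext (Units.ext h)

/-- The matrix of an element. -/
noncomputable def mat (w : Mon F p) : Matrix (Fin p) (Fin p) F :=
  fun i j => if idx p i = w.right * idx p j then val (w.left (idx p i)) else 0

theorem mat_mul (a b : Mon F p) : mat (a * b) = mat a * mat b := by
  classical
  ext i j
  rw [Matrix.mul_apply, Finset.sum_eq_single ((idx p).symm (a.right⁻¹ * idx p i))]
  · simp only [mat, Equiv.apply_symm_apply, mul_inv_cancel_left, if_true,
      RegularWreathProduct.mul_right, RegularWreathProduct.mul_left, Pi.mul_apply]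
    split_ifs with h1 h2 h2
    · exact val_mul _ _
    · exact absurd (by rw [h1]; group) h2
    · exact absurd (by rw [mul_assoc, ← h2, mul_inv_cancel_left]) h1
    · simp
  · intro l _ hl
    have : ¬ idx p i = a.right * idx p l := fun h => hl (by
      rw [h, inv_mul_cancel_left, Equiv.symm_apply_apply])
    simp [mat, this]
  · simp

theorem mat_one : mat (1 : Mon F p) = 1 := by
  ext i j
  simp [mat, Matrix.one_apply, val_one]

/-- The representation. -/
noncomputable def toGL : Mon F p →* GL (Fin p) F :=
  MonoidHom.toHomUnits { toFun := mat, map_one' := mat_one, map_mul' := mat_mul }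

theorem coe_toGL (w : Mon F p) : ((toGL w : GL (Fin p) F) : Matrix (Fin p) (Fin p) F) = mat w :=
  rfl

theorem toGL_injective : Function.Injective (toGL (F := F) (p := p)) := by
  intro a b h
  have h' : mat a = mat b := congrArg Units.val h
  have hr : a.right = b.right := by
    have h1 := congrFun (congrFun h' ((idx p).symm a.right)) ((idx p).symm 1)
    simp only [mat, Equiv.apply_symm_apply, mul_one, if_true] at h1
    by_contra hne
    rw [if_neg hne] at h1
    exact val_ne_zero _ h1
  refine RegularWreathProduct.ext (funext fun x => ?_) hr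
  have h1 := congrFun (congrFun h' ((idx p).symm x)) ((idx p).symm (a.right⁻¹ * x))
  simp only [mat, Equiv.apply_symm_apply, mul_inv_cancel_left, if_true, hr] at h1
  exact val_injective h1

theorem ne_zero_of_dvd (h1 : p ∣ Fintype.card F - 1) : (p : F) ≠ 0 := by
  intro h
  obtain ⟨r, hr⟩ := CharP.exists F
  obtain ⟨n, hrp, hc⟩ := FiniteField.card F r
  have hrp' : r ∣ p := (CharP.cast_eq_zero_iff F r p).1 h
  rcases (Nat.dvd_prime (Fact.out : p.Prime)).1 hrp' with h2 | h2
  · exact hrp.ne_one h2
  · subst h2
    have h3 : r ∣ Fintype.card F := hc ▸ dvd_pow_self r n.ne_zero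
    have h4 := Nat.dvd_sub h3 h1
    rw [Nat.sub_sub_self Fintype.card_pos] at h4
    exact hrp.ne_one (Nat.dvd_one.1 h4)

theorem card_roots (h1 : p ∣ Fintype.card F - 1) : Nat.card (rootsOfUnity p F) = p := by
  obtain ⟨u, hu⟩ := exists_prime_orderOf_dvd_card' (G := Fˣ) p
    (by rwa [Nat.card_units, Nat.card_eq_fintype_card])
  have hprim : IsPrimitiveRoot (u : F) p := by
    rw [← hu, ← orderOf_units]
    exact IsPrimitiveRoot.orderOf _
  exact hprim.card_rootsOfUnity

theorem card_mon (h1 : p ∣ Fintype.card F - 1) : Nat.card (Mon F p) = p ^ (p + 1) := by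
  rw [RegularWreathProduct.card, card_roots h1, Nat.card_congr Multiplicative.toAdd, Nat.card_zmod,
    pow_succ]

theorem factorization_card (hp : p ≠ 2) (h1 : p ∣ Fintype.card F - 1)
    (h2 : ¬ p ^ 2 ∣ Fintype.card F - 1) :
    (Nat.card (GL (Fin p) F)).factorization p = p + 1 := by
  have hpr := (Fact.out : p.Prime)
  have hodd : Odd p := hpr.odd_of_ne_two hp
  obtain ⟨q, hq⟩ : ∃ q, Fintype.card F = q := ⟨_, rfl⟩
  have hq2 : 2 ≤ q := hq ▸ Fintype.one_lt_card
  rw [hq] at h1 h2
  have hnd : ¬ p ∣ q := fun h => by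
    have := Nat.dvd_sub h h1
    rw [Nat.sub_sub_self (by omega)] at this
    exact hpr.ne_one (Nat.dvd_one.1 this)
  have hv1 : padicValNat p (q - 1) = 1 := by
    have ha : 1 ≤ padicValNat p (q - 1) := one_le_padicValNat_of_dvd (by omega) h1
    have hb : ¬ 2 ≤ padicValNat p (q - 1) := fun h =>
      h2 ((padicValNat_dvd_iff_le (by omega)).2 h)
    omega
  rw [Nat.factorization_def _ hpr, CfsgLib.Zsigmondy.SylowLinear.card_gl_eq_prod, hq, padicValNat.mul
    (Finset.prod_ne_zero_iff.mpr fun i _ => pow_ne_zero _ (by omega))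
    (Finset.prod_ne_zero_iff.mpr fun i hi =>
      CfsgLib.Zsigmondy.pow_sub_one_ne_zero hq2 (Finset.mem_Icc.mp hi).1)]
  have hz : padicValNat p (∏ i : Fin p, q ^ (i : ℕ)) = 0 := by
    refine padicValNat.eq_zero_of_not_dvd fun h => ?_
    obtain ⟨i, -, hi⟩ := hpr.prime.dvd_finsetProd_iff _ |>.mp h
    exact hnd (hpr.dvd_of_dvd_pow hi)
  have hval : ∀ i ∈ Finset.Icc 1 p, padicValNat p (q ^ i - 1) = 1 + if i = p then 1 else 0 := by
    intro i hi
    obtain ⟨hi1, hi2⟩ := Finset.mem_Icc.1 hi
    have := padicValNat.pow_sub_pow (p := p) hodd (x := q) (y := 1) (by omega) h1 hnd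
      (n := i) (by omega)
    rw [one_pow, hv1] at this
    rw [this]
    split_ifs with h
    · rw [h, padicValNat.self hpr.one_lt]
    · rw [padicValNat.eq_zero_of_not_dvd fun hd => h (le_antisymm hi2 (Nat.le_of_dvd (by omega) hd))]
  have hprod : ∀ s : Finset ℕ, (∀ i ∈ s, q ^ i - 1 ≠ 0) →
      padicValNat p (∏ i ∈ s, (q ^ i - 1)) = ∑ i ∈ s, padicValNat p (q ^ i - 1) := by
    intro s
    induction s using Finset.induction_on with
    | empty => simp
    | @insert a s ha ih =>
      intro h
      rw [Finset.prod_insert ha, Finset.sum_insert ha, padicValNat.mul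
        (h a (Finset.mem_insert_self _ _))
        (Finset.prod_ne_zero_iff.mpr fun i hi => h i (Finset.mem_insert_of_mem hi)),
        ih fun i hi => h i (Finset.mem_insert_of_mem hi)]
  rw [hz, zero_add, hprod _ (fun i hi =>
      CfsgLib.Zsigmondy.pow_sub_one_ne_zero hq2 (Finset.mem_Icc.mp hi).1),
    Finset.sum_congr rfl hval, Finset.sum_add_distrib, Finset.sum_ite_eq',
    if_pos (Finset.mem_Icc.2 ⟨hpr.one_lt.le, le_rfl⟩)]
  simp

/-- Some row has two nonzero entries. -/
def NonMonomial (g : GL (Fin p) F) : Prop :=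
  ∃ i j l, j ≠ l ∧ (g : Matrix (Fin p) (Fin p) F) i j ≠ 0 ∧ (g : Matrix (Fin p) (Fin p) F) i l ≠ 0

theorem not_conj_le (hp : p ≠ 2) (h1 : p ∣ Fintype.card F - 1) {g : GL (Fin p) F}
    (hg : NonMonomial g) :
    ∃ w : Mon F p, g * toGL w * g⁻¹ ∉ (toGL (F := F) (p := p)).range := by
  classical
  by_contra hno
  push Not at hno
  obtain ⟨i, j, l, hjl, hij, hil⟩ := hg
  obtain ⟨z, hz⟩ := exists_prime_orderOf_dvd_card' (G := rootsOfUnity p F) p
    (by rw [card_roots h1])
  -- a diagonal element with nonzero trace
  obtain ⟨ν, hν1, htr⟩ : ∃ ν : rootsOfUnity p F, ν ≠ 1 ∧ val ν + ((p : F) - 1) ≠ 0 := by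
    have hz1 : z ≠ 1 := fun h => (Fact.out : p.Prime).ne_one (by rw [← hz, h, orderOf_one])
    by_cases h : val z + ((p : F) - 1) = 0
    · refine ⟨z * z, fun h2 => ?_, fun h2 => hz1 ?_⟩
      · have := orderOf_dvd_of_pow_eq_one (n := 2) (by rw [pow_two, h2] : z ^ 2 = 1)
        rw [hz] at this
        exact hp ((Nat.prime_dvd_prime_iff_eq Fact.out Nat.prime_two).1 this)
      · have h3 : val (z * z) = val z := by linear_combination h2 - h
        exact mul_left_cancel (a := z) (by rw [mul_one]; exact val_injective h3)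
    · exact ⟨z, hz1, h⟩
  let d : Mon F p := ⟨Pi.mulSingle (idx p j) ν, 1⟩
  obtain ⟨w, hw⟩ := hno d
  have heq : mat w * (g : Matrix (Fin p) (Fin p) F) = (g : Matrix (Fin p) (Fin p) F) * mat d := by
    have := congrArg Units.val (eq_mul_inv_iff_mul_eq.1 hw)
    simpa [coe_toGL] using this
  have hwr : w.right = 1 := by
    by_contra hne
    have h1 : trace (mat w) = 0 := Finset.sum_eq_zero fun m _ => by
      show mat w m m = 0
      rw [mat, if_neg fun h => hne (by simpa using h.symm)]
    have h2 : trace (mat w) = trace (mat d) := by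
      have := congrArg (fun u : GL (Fin p) F => trace (u : Matrix (Fin p) (Fin p) F)) hw
      simp only [coe_toGL, Units.val_mul] at this
      rw [this, Matrix.trace_units_conj]
    apply htr
    rw [← h1, h2, trace, ← Finset.add_sum_erase _ _ (Finset.mem_univ j)]
    congr 1
    · simp [mat, d, Matrix.diag]
    · rw [Finset.sum_congr rfl (g := fun _ => (1 : F)) fun m hm => by
        simp [mat, d, Matrix.diag, Pi.mulSingle_eq_of_ne
          (fun h => Finset.ne_of_mem_erase hm ((idx p).injective h)), val_one]]
      rw [Finset.sum_const, Finset.card_erase_of_mem (Finset.mem_univ j), Finset.card_univ,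
        Fintype.card_fin, nsmul_one, Nat.cast_sub (Fact.out : p.Prime).one_lt.le, Nat.cast_one]
  have hrow : ∀ c, val (w.left (idx p i)) * (g : Matrix (Fin p) (Fin p) F) i c =
      (g : Matrix (Fin p) (Fin p) F) i c * val (d.left (idx p c)) := by
    intro c
    have := congrFun (congrFun heq i) c
    rw [Matrix.mul_apply, Matrix.mul_apply, Finset.sum_eq_single i, Finset.sum_eq_single c] at this
    · simpa [mat, hwr, d] using this
    · intro m _ hm
      simp [mat, d, hm]
    · simp
    · intro m _ hm
      simp [mat, hwr, Ne.symm hm]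
    · simp
  have e1 := hrow j
  have e2 := hrow l
  simp only [d, Pi.mulSingle_eq_same, Pi.mulSingle_eq_of_ne ((idx p).injective.ne (Ne.symm hjl)),
    val_one, mul_one] at e1 e2
  rw [mul_comm] at e1
  have e1' := mul_left_cancel₀ hij e1
  have e2' := (mul_eq_right₀ hil).1 e2
  rw [e2', ← val_one (F := F) (p := p)] at e1'
  exact hν1 (val_injective e1'.symm)

theorem pow_left (w : Mon F p) (k : ℕ) (y : Multiplicative (ZMod p)) :
    (w ^ k).left y = ∏ i ∈ Finset.range k, w.left ((w.right ^ i)⁻¹ * y) := by
  induction k generalizing y with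
  | zero => simp
  | succ k ih =>
    rw [pow_succ, RegularWreathProduct.mul_left, Pi.mul_apply, ih, Finset.prod_range_succ]
    rw [show (w ^ k).right = w.right ^ k from map_pow (RegularWreathProduct.rightHom
      (D := rootsOfUnity p F) (Q := Multiplicative (ZMod p))) w k]

theorem exists_pow_eq_scalar (w : Mon F p) (hw : w.right ≠ 1) :
    ∃ c : rootsOfUnity p F, mat w ^ p = val c • (1 : Matrix (Fin p) (Fin p) F) := by
  classical
  have hcard : Nat.card (Multiplicative (ZMod p)) = p := by
    rw [Nat.card_congr Multiplicative.toAdd, Nat.card_zmod]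
  have hord : orderOf w.right = p := by
    rcases (Nat.dvd_prime (Fact.out : p.Prime)).1 (hcard ▸ orderOf_dvd_natCard w.right) with h | h
    · exact absurd (orderOf_eq_one_iff.1 h) hw
    · exact h
  refine ⟨∏ y, w.left y, ?_⟩
  have hr : (w ^ p).right = 1 := by
    rw [show (w ^ p).right = w.right ^ p from map_pow (RegularWreathProduct.rightHom
      (D := rootsOfUnity p F) (Q := Multiplicative (ZMod p))) w p]
    have := pow_orderOf_eq_one w.right
    rwa [hord] at this
  have hl : ∀ y, (w ^ p).left y = ∏ x, w.left x := by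
    intro y
    rw [pow_left, ← Fin.prod_univ_eq_prod_range (fun i => w.left ((w.right ^ i)⁻¹ * y)) p]
    refine Fintype.prod_bijective (fun i : Fin p => (w.right ^ (i : ℕ))⁻¹ * y) ?_ _ _ (fun i => rfl)
    rw [Fintype.bijective_iff_injective_and_card]
    refine ⟨fun a b h => Fin.ext ?_, by rw [Fintype.card_fin, ← Nat.card_eq_fintype_card, hcard]⟩
    exact pow_injOn_Iio_orderOf (by simp [hord]) (by simp [hord])
      (inv_injective (mul_right_cancel h))
  have : mat (w ^ p) = mat w ^ p := map_pow
    ({ toFun := mat, map_one' := mat_one, map_mul' := mat_mul } :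
      Mon F p →* Matrix (Fin p) (Fin p) F) w p
  rw [← this]
  ext i j
  simp only [mat, hr, one_mul, hl, Matrix.smul_apply, smul_eq_mul, Matrix.one_apply,
    EmbeddingLike.apply_eq_iff_eq]
  split_ifs <;> simp

theorem mat_pow (w : Mon F p) (k : ℕ) : mat w ^ k = mat (w ^ k) :=
  (map_pow ({ toFun := mat, map_one' := mat_one, map_mul' := mat_mul } :
      Mon F p →* Matrix (Fin p) (Fin p) F) w k).symm

/-- An element with nontrivial permutation part commutes with a non-monomial unit. -/
theorem exists_commute (hp : p ≠ 2) (h1 : p ∣ Fintype.card F - 1) (w : Mon F p)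
    (hw : w.right ≠ 1) :
    ∃ g : GL (Fin p) F, NonMonomial g ∧ Commute g (toGL w) := by
  classical
  have hpr := (Fact.out : p.Prime)
  have hodd : Odd p := hpr.odd_of_ne_two hp
  obtain ⟨c, hc⟩ := exists_pow_eq_scalar w hw
  set x : Matrix (Fin p) (Fin p) F := mat w with hx
  let i0 : Fin p := (idx p).symm 1
  have hentry : ∀ k : ℕ, ∀ j, x ^ k = mat (w ^ k) ∧
      ((x ^ k) i0 j ≠ 0 ↔ (w.right ^ k) * idx p j = 1) := by
    intro k j
    refine ⟨mat_pow w k, ?_⟩
    rw [mat_pow]
    simp only [mat, i0, Equiv.apply_symm_apply]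
    rw [show (w ^ k).right = w.right ^ k from map_pow (RegularWreathProduct.rightHom
      (D := rootsOfUnity p F) (Q := Multiplicative (ZMod p))) w k]
    split_ifs with h
    · simp [val_ne_zero, ← h]
    · simp [eq_comm, h]
  by_cases hc1 : val c = 1
  · obtain ⟨a, ha⟩ : ∃ a : F, a ∉ ({0, 1} : Finset F) := by
      refine (Finset.exists_mem_notMem_of_card_lt_card (s := ({0, 1} : Finset F)) (t := Finset.univ)
        ?_).imp fun a h => h.2
      have h2 := hpr.two_le
      have h3 := Nat.le_of_dvd (by have := Fintype.one_lt_card (α := F); omega) h1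
      rw [Finset.card_univ]
      have := Finset.card_le_two (a := (0 : F)) (b := 1)
      omega
    simp only [Finset.mem_insert, Finset.mem_singleton, not_or] at ha
    have hpF : (p : F) ≠ 0 := ne_zero_of_dvd h1
    rw [hc1, one_smul] at hc
    set S : Matrix (Fin p) (Fin p) F := ∑ k ∈ Finset.range p, x ^ k with hS
    have hxS : x * S = S := by
      have h4 : x * S + 1 = S + x ^ p := by
        have e := Finset.sum_range_succ' (fun k => x ^ k) p
        rw [Finset.sum_range_succ] at e
        simp only [pow_succ', ← Finset.mul_sum, pow_zero] at e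
        exact e.symm
      rw [hc] at h4
      exact add_right_cancel h4
    have hSS : S * S = (p : F) • S := by
      have hk : ∀ k : ℕ, x ^ k * S = S := fun k => by
        induction k with
        | zero => simp
        | succ k ih => rw [pow_succ, mul_assoc, hxS, ih]
      conv_lhs => arg 1; rw [hS]
      rw [Finset.sum_mul, Finset.sum_congr rfl fun k _ => hk k, Finset.sum_const, Finset.card_range,
        Nat.cast_smul_eq_nsmul]
    have hSx : S * x = x * S := by
      rw [hS, Finset.sum_mul, Finset.mul_sum]
      exact Finset.sum_congr rfl fun k _ => (Commute.pow_left (Commute.refl x) k).eq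
    let s : F := (a - 1) / p
    let t : F := (a⁻¹ - 1) / p
    have hst : s + t + s * t * p = 0 := by
      simp only [s, t]; field_simp [ha.1, hpF]; ring
    have hm : ∀ u v : F, u + v + u * v * p = 0 →
        (1 + u • S) * (1 + v • S) = (1 : Matrix (Fin p) (Fin p) F) := by
      intro u v huv
      rw [add_mul, one_mul, mul_add, mul_one, smul_mul_smul_comm, hSS, smul_smul]
      have : (1 : Matrix (Fin p) (Fin p) F) + v • S + (u • S + (u * v * p) • S) =
          1 + (u + v + u * v * p) • S := by rw [add_smul, add_smul]; abel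
      rw [this, huv, zero_smul, add_zero]
    let g : GL (Fin p) F := ⟨1 + s • S, 1 + t • S, hm s t hst,
      hm t s (by rw [← hst]; ring)⟩
    refine ⟨g, ?_, Units.ext ?_⟩
    · have hs0 : s ≠ 0 := div_ne_zero (sub_ne_zero.2 ha.2) hpF
      have hcol : ∀ k, 1 ≤ k → k < p → ∃ j, idx p j = (w.right ^ k)⁻¹ ∧
          (g : Matrix (Fin p) (Fin p) F) i0 j ≠ 0 := by
        intro k hk1 hk2
        refine ⟨(idx p).symm (w.right ^ k)⁻¹, Equiv.apply_symm_apply _ _, ?_⟩
        have hne : i0 ≠ (idx p).symm (w.right ^ k)⁻¹ := by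
          intro h
          have h5 := (idx p).symm.injective h
          rw [eq_comm, inv_eq_one] at h5
          have h6 := orderOf_dvd_of_pow_eq_one h5
          rw [orderOf_eq_prime (by
            have := pow_card_eq_one' (G := Multiplicative (ZMod p)) (x := w.right)
            rwa [Nat.card_congr Multiplicative.toAdd, Nat.card_zmod] at this) hw] at h6
          exact absurd (Nat.le_of_dvd (by omega) h6) (by omega)
        show (1 + s • S : Matrix (Fin p) (Fin p) F) i0 _ ≠ 0
        rw [Matrix.add_apply, Matrix.smul_apply, Matrix.one_apply_ne hne, zero_add, hS,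
          Matrix.sum_apply, Finset.sum_eq_single k]
        · exact mul_ne_zero hs0 (((hentry k _).2).2 (by simp))
        · intro m hm hmk
          by_contra h0
          have h5 := (hentry m _).2.1 h0
          rw [Equiv.apply_symm_apply, mul_inv_eq_one] at h5
          have h7 : orderOf w.right = p := orderOf_eq_prime (by
            have := pow_card_eq_one' (G := Multiplicative (ZMod p)) (x := w.right)
            rwa [Nat.card_congr Multiplicative.toAdd, Nat.card_zmod] at this) hw
          exact hmk (pow_injOn_Iio_orderOf (by simpa [h7] using hm) (by simpa [h7] using hk2) h5)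
        · intro h; exact absurd (Finset.mem_range.2 hk2) h
      have h3 : 3 ≤ p := by have := hpr.two_le; omega
      obtain ⟨j, hj, hj'⟩ := hcol 1 le_rfl (by omega)
      obtain ⟨l, hl, hl'⟩ := hcol 2 (by omega) (by omega)
      refine ⟨i0, j, l, fun h => ?_, hj', hl'⟩
      rw [h, hl, _root_.inv_inj, pow_two, pow_one] at hj
      exact hw (mul_eq_left.1 hj)
    · show (1 + s • S) * x = x * (1 + s • S)
      rw [add_mul, mul_add, one_mul, mul_one, smul_mul_assoc, mul_smul_comm, hSx]
  · -- `1 + x` is invertible
    have hn : (-x) ^ p = -(val c • (1 : Matrix (Fin p) (Fin p) F)) := by rw [hodd.neg_pow, hc]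
    have hne : 1 + val c ≠ 0 := by
      intro h
      apply hc1
      have h5 : val c = -1 := by linear_combination h
      have h6 := val_pow c
      rw [h5, hodd.neg_one_pow] at h6
      rw [h5, h6]
    have hgeo : (1 + x) * ∑ k ∈ Finset.range p, (-x) ^ k =
        (1 + val c) • (1 : Matrix (Fin p) (Fin p) F) := by
      have := mul_neg_geom_sum (-x) p
      rw [sub_neg_eq_add, hn, sub_neg_eq_add] at this
      rw [this, add_smul, one_smul]
    have hdet : IsUnit (1 + x).det := by
      refine (Matrix.isUnit_iff_isUnit_det _).1 (IsUnit.of_mul_eq_one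
        ((1 + val c)⁻¹ • ∑ k ∈ Finset.range p, (-x) ^ k) ?_)
      rw [mul_smul_comm, hgeo, smul_smul, inv_mul_cancel₀ hne, one_smul]
    refine ⟨((Matrix.isUnit_iff_isUnit_det _).2 hdet).unit, ?_, Units.ext ?_⟩
    · have hj : (idx p).symm w.right⁻¹ ≠ i0 := fun h => by
        have := (idx p).symm.injective h
        exact hw (inv_eq_one.1 this)
      refine ⟨i0, i0, (idx p).symm w.right⁻¹, Ne.symm hj, ?_, ?_⟩
      · show (1 + x) i0 i0 ≠ 0
        have : x i0 i0 = 0 := by
          by_contra h0
          have := ((hentry 1 i0).2).1 (by rwa [pow_one])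
          simp [i0] at this
          exact hw this
        simp [this]
      · show (1 + x) i0 _ ≠ 0
        rw [Matrix.add_apply, Matrix.one_apply_ne (Ne.symm hj), zero_add]
        have := ((hentry 1 ((idx p).symm w.right⁻¹)).2).2 (by simp)
        rwa [pow_one] at this
    · show (1 + x) * x = x * (1 + x)
      rw [add_mul, mul_add, one_mul, mul_one]

theorem exists_conj (hp : p ≠ 2) (h1 : p ∣ Fintype.card F - 1) (w : Mon F p) :
    ∃ g : GL (Fin p) F, NonMonomial g ∧ ∃ y : Mon F p, g * toGL y = toGL w * g := by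
  classical
  by_cases hw : w.right = 1
  swap
  · obtain ⟨g, hg, hgw⟩ := exists_commute hp h1 w hw
    exact ⟨g, hg, w, hgw⟩
  by_cases hd : ∃ a b : Fin p, a ≠ b ∧ w.left (idx p a) = w.left (idx p b)
  · obtain ⟨a, b, hab, he⟩ := hd
    refine ⟨((Matrix.isUnit_iff_isUnit_det _).2 (by
      rw [Matrix.det_transvection_of_ne a b hab (1 : F)]; exact isUnit_one) :
        IsUnit (Matrix.transvection a b (1 : F))).unit, ⟨a, a, b, hab, ?_, ?_⟩, w, Units.ext ?_⟩
    · show Matrix.transvection a b (1 : F) a a ≠ 0
      simp [Matrix.transvection, Matrix.one_apply, Matrix.single_apply, hab.symm]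
    · show Matrix.transvection a b (1 : F) a b ≠ 0
      simp [Matrix.transvection, Matrix.one_apply, Matrix.single_apply, hab]
    · show Matrix.transvection a b (1 : F) * mat w = mat w * Matrix.transvection a b (1 : F)
      have hdiag : mat w = Matrix.diagonal fun i => val (w.left (idx p i)) := by
        ext i j
        simp [mat, hw, Matrix.diagonal_apply]
      rw [hdiag]
      ext i j
      rw [Matrix.mul_diagonal, Matrix.diagonal_mul]
      simp only [Matrix.transvection, Matrix.add_apply, Matrix.one_apply, Matrix.single_apply]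
      by_cases hij : i = j
      · subst hij; ring
      · by_cases hab' : a = i ∧ b = j
        · obtain ⟨rfl, rfl⟩ := hab'
          rw [he]; ring
        · simp [hij, hab']
  · push Not at hd
    let v : Fin p → F := fun i => val (w.left (idx p i))
    have hv : Function.Injective v := fun a b h => by
      by_contra hne
      exact hd a b hne (val_injective h)
    let V : Matrix (Fin p) (Fin p) F := Matrix.vandermonde v
    have hu : IsUnit V := (Matrix.isUnit_iff_isUnit_det _).2
      (isUnit_iff_ne_zero.2 (Matrix.det_vandermonde_ne_zero_iff.2 hv))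
    let i0 : Fin p := (idx p).symm 1
    let i1 : Fin p := (idx p).symm (Multiplicative.ofAdd 1)
    refine ⟨hu.unit, ⟨i0, i0, i1, fun h => ?_, pow_ne_zero _ (val_ne_zero _),
      pow_ne_zero _ (val_ne_zero _)⟩, ⟨1, Multiplicative.ofAdd 1⟩, Units.ext ?_⟩
    · have := (idx p).symm.injective h
      exact one_ne_zero (congrArg Multiplicative.toAdd this).symm
    · show V * mat ⟨1, Multiplicative.ofAdd 1⟩ = mat w * V
      ext i l
      rw [Matrix.mul_apply, Finset.sum_eq_single ((idx p).symm (Multiplicative.ofAdd 1 * idx p l)),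
        Matrix.mul_apply, Finset.sum_eq_single i]
      · set m := (idx p).symm (Multiplicative.ofAdd 1 * idx p l) with hm
        have hm' : idx p m = Multiplicative.ofAdd 1 * idx p l := Equiv.apply_symm_apply _ _
        rw [idx_apply, idx_apply, ← ofAdd_add, Multiplicative.ofAdd.injective.eq_iff] at hm'
        have hmod : (m : ℕ) % p = ((l : ℕ) + 1) % p := by
          rw [← ZMod.natCast_eq_natCast_iff' (m : ℕ) ((l : ℕ) + 1) p, hm']
          push_cast; ring
        simp only [mat, hw, one_mul, if_true, hm, Equiv.apply_symm_apply, Pi.one_apply, val_one,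
          mul_one]
        simp only [V, Matrix.vandermonde_apply, ← hm]
        rw [← pow_succ', pow_eq_pow_mod _ (val_pow _), hmod, ← pow_eq_pow_mod _ (val_pow _)]
      · intro b _ hb
        simp [mat, hw, Ne.symm hb]
      · simp
      · intro b _ hb
        have : ¬ idx p b = Multiplicative.ofAdd 1 * idx p l := fun h => hb (by
          rw [← h, Equiv.symm_apply_apply])
        simp [mat, this]
      · simp

theorem exists_sylow (hp : p ≠ 2) (h1 : p ∣ Fintype.card F - 1)
    (h2 : ¬ p ^ 2 ∣ Fintype.card F - 1) :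
    ∃ Q : Sylow p (GL (Fin p) F), ∀ x : GL (Fin p) F, (∃ k : ℕ, orderOf x = p ^ k) →
      ∃ P : Sylow p (GL (Fin p) F), P ≠ Q ∧ x ∈ P := by
  classical
  let Q : Sylow p (GL (Fin p) F) := Sylow.ofCard (toGL (F := F) (p := p)).range (by
    rw [← Nat.card_congr (MonoidHom.ofInjective toGL_injective).toEquiv, card_mon h1,
      factorization_card hp h1 h2])
  have hQ : (Q : Subgroup (GL (Fin p) F)) = (toGL (F := F) (p := p)).range := rfl
  refine ⟨Q, fun x ⟨k, hk⟩ => ?_⟩
  have hx : IsPGroup p (Subgroup.zpowers x) :=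
    IsPGroup.of_card (n := k) (by rw [Nat.card_zpowers, hk])
  obtain ⟨P, hP⟩ := hx.exists_le_sylow
  by_cases hPQ : P = Q
  swap
  · exact ⟨P, hPQ, hP (Subgroup.mem_zpowers x)⟩
  obtain ⟨w, rfl⟩ : x ∈ (toGL (F := F) (p := p)).range := by
    rw [← hQ, ← hPQ]; exact hP (Subgroup.mem_zpowers x)
  obtain ⟨g, hg, y, hy⟩ := exists_conj hp h1 w
  obtain ⟨v, hv⟩ := not_conj_le hp h1 hg
  refine ⟨g • Q, fun h => hv ?_, ?_⟩
  · rw [← hQ, ← h]
    exact ⟨toGL v, ⟨v, rfl⟩, by simp [MulAut.conj_apply]⟩
  · exact ⟨toGL y, ⟨y, rfl⟩, by simp [MulAut.conj_apply, hy]⟩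

end CfsgLib.GLPrimeSylow
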